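import Mathlib
import Groth.Agent.CAlgH2.CompleteN2
import Groth.Agent.EllIso2.Complete
import Groth.Agent.WE91.LocalIntegral

set_option autoImplicit false
set_option linter.unusedSectionVars false
universe u

open IsLocalRing

namespace Groth.Agent.DvrKer31

variable {A : Type u} [CommRing A] [IsLocalRing A] [IsNoetherianRing A]

/-- a non-nilpotent element of the maximal ideal avoids a prime of coheight one -/
theorem exists_prime_coheight_one {f : A} (hf : f ∈ maximalIdeal A) (hnil : ¬ IsNilpotent f) :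
    ∃ P : Ideal A, P.IsPrime ∧ f ∉ P ∧ ∀ Q : Ideal A, Q.IsPrime → P < Q → Q = maximalIdeal A := by
  classical
  have hne : {P : Ideal A | P.IsPrime ∧ f ∉ P}.Nonempty := by
    rw [← mem_nilradical, nilradical_eq_sInf, Submodule.mem_sInf] at hnil
    push Not at hnil
    obtain ⟨P, hP, hfP⟩ := hnil
    exact ⟨P, hP, hfP⟩
  obtain ⟨P, ⟨hP, hfP⟩, hmax⟩ : ∃ P : Ideal A, (P.IsPrime ∧ f ∉ P) ∧
      ∀ J : Ideal A, (J.IsPrime ∧ f ∉ J) → ¬ P < J :=
    set_has_maximal_iff_noetherian.2 inferInstance _ hne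
  refine ⟨P, hP, hfP, fun Q hQ hPQ => ?_⟩
  have hgt : ∀ R : Ideal A, R.IsPrime → P < R → f ∈ R := by
    intro R hR hPR
    by_contra hfR
    exact hmax R ⟨hR, hfR⟩ hPR
  have hfin := Ideal.finite_minimalPrimes_of_isNoetherianRing A (P ⊔ Ideal.span {f})
  set M := Ideal.minimalPrimes (P ⊔ Ideal.span {f}) with hM
  have hlem : P ⊔ Ideal.span {f} ≤ maximalIdeal A := by
    refine sup_le (IsLocalRing.le_maximalIdeal hP.ne_top) ?_
    rwa [Ideal.span_singleton_le_iff_mem]
  by_cases hm : maximalIdeal A ∈ M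
  · refine le_antisymm (IsLocalRing.le_maximalIdeal hQ.ne_top) ?_
    have hle : P ⊔ Ideal.span {f} ≤ Q :=
      sup_le hPQ.le ((Ideal.span_singleton_le_iff_mem _).2 (hgt Q hQ hPQ))
    exact hm.2 ⟨hQ, hle⟩ (IsLocalRing.le_maximalIdeal hQ.ne_top)
  · exfalso
    -- choose `g` in the maximal ideal outside all primes minimal over `(P, f)`
    obtain ⟨g, hg, hgM⟩ : ∃ g ∈ maximalIdeal A, ∀ R ∈ M, g ∉ R := by
      by_contra hcon
      push Not at hcon
      have hsub : (maximalIdeal A : Set A) ⊆ ⋃ R ∈ (↑hfin.toFinset : Set (Ideal A)), (R : Set A) := by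
        intro g hg
        obtain ⟨R, hR, hgR⟩ := hcon g hg
        exact Set.mem_biUnion (by simpa using hR) hgR
      obtain ⟨R, hR, hle⟩ := (Ideal.subset_union_prime ⊥ ⊥
        (fun R hR _ _ => (hfin.mem_toFinset.1 hR).1.1)).1 hsub
      have hR' := hfin.mem_toFinset.1 hR
      exact hm (le_antisymm hle (IsLocalRing.le_maximalIdeal hR'.1.1.ne_top) ▸ hR')
    have hle : P ⊔ Ideal.span {g} ≤ maximalIdeal A :=
      sup_le (IsLocalRing.le_maximalIdeal hP.ne_top) ((Ideal.span_singleton_le_iff_mem _).2 hg)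
    obtain ⟨R, hR, hRm⟩ := Ideal.exists_minimalPrimes_le hle
    -- `R` has height at most one over `P`
    have : P.IsPrime := hP
    let π := Ideal.Quotient.mk P
    have hRp : R.IsPrime := hR.1.1
    have hker : RingHom.ker π ≤ R := by rw [Ideal.mk_ker]; exact le_sup_left.trans hR.1.2
    have hRbar : R.map π ∈ (Ideal.span {π g}).minimalPrimes := by
      have hRp : R.IsPrime := hR.1.1
      refine ⟨⟨Ideal.map_isPrime_of_surjective Ideal.Quotient.mk_surjective hker, ?_⟩, ?_⟩
      · rw [Ideal.span_singleton_le_iff_mem]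
        exact Ideal.mem_map_of_mem _ ((Ideal.span_singleton_le_iff_mem _).1 (le_sup_right.trans hR.1.2))
      · rintro q ⟨hq, hgq⟩ hqle
        have h1 : P ⊔ Ideal.span {g} ≤ q.comap π := by
          refine sup_le ?_ ?_
          · intro a ha
            rw [Ideal.mem_comap, Ideal.Quotient.eq_zero_iff_mem.2 ha]; exact q.zero_mem
          · rw [Ideal.span_singleton_le_iff_mem]
            exact hgq (Ideal.mem_span_singleton_self _)
        have h2 : q.comap π ≤ R := by
          refine (Ideal.comap_mono hqle).trans (le_of_eq ?_)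
          rw [Ideal.comap_map_of_surjective _ Ideal.Quotient.mk_surjective, sup_eq_left,
            ← RingHom.ker_eq_comap_bot]
          exact hker
        have h3 := hR.2 ⟨hq.comap π, h1⟩ h2
        exact Ideal.map_le_iff_le_comap.2 h3
    have hh := Ideal.height_le_one_of_isPrincipal_of_mem_minimalPrimes _ _ hRbar
    have hPR : P < R := by
      refine lt_of_le_of_ne (le_sup_left.trans hR.1.2) fun e => ?_
      obtain ⟨R', hR', -⟩ := Ideal.exists_minimalPrimes_le hlem
      exact hgM R' hR' (hR'.1.2 (le_sup_left (b := Ideal.span {f})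
        (e ▸ (Ideal.span_singleton_le_iff_mem _).1 (le_sup_right.trans hR.1.2))))
    obtain ⟨R', hR', hR'R⟩ := Ideal.exists_minimalPrimes_le
      (sup_le hPR.le ((Ideal.span_singleton_le_iff_mem _).2 (hgt R hR.1.1 hPR)))
    have hne' : R' ≠ R := fun e => hgM R' hR' (e ▸ (Ideal.span_singleton_le_iff_mem _).1
      (le_sup_right.trans hR.1.2))
    -- chain `0 < R'/P < R/P`
    have hR'p : R'.IsPrime := hR'.1.1
    have hker' : RingHom.ker π ≤ R' := by rw [Ideal.mk_ker]; exact le_sup_left.trans hR'.1.2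
    have hR'0 : R'.map π ≠ ⊥ := by
      intro h
      apply hfP
      rw [← Ideal.Quotient.eq_zero_iff_mem]
      have : π f ∈ R'.map π := Ideal.mem_map_of_mem _ (hR'.1.2 (le_sup_right (a := P)
        (Ideal.mem_span_singleton_self f)))
      simpa [h] using this
    have hlt : R'.map π < R.map π := by
      refine lt_of_le_of_ne (Ideal.map_mono hR'R) fun e => hne' ?_
      have := congrArg (Ideal.comap π) e
      rwa [Ideal.comap_map_of_surjective _ Ideal.Quotient.mk_surjective, sup_eq_left.2 (by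
          rw [← RingHom.ker_eq_comap_bot]; exact hker'),
        Ideal.comap_map_of_surjective _ Ideal.Quotient.mk_surjective, sup_eq_left.2 (by
          rw [← RingHom.ker_eq_comap_bot]; exact hker)] at this
    have h2 : (R'.map π).IsPrime := Ideal.map_isPrime_of_surjective Ideal.Quotient.mk_surjective hker'
    have h2R : (R.map π).IsPrime := hRbar.1.1
    have h3 := Ideal.height_strict_mono_of_isPrime_of_isPrime hlt
    have h4 : R'.map π ∈ minimalPrimes (A ⧸ P) := by
      exact Ideal.height_eq_zero_iff.1 (ENat.lt_one_iff_eq_zero.1 (lt_of_lt_of_le h3 hh))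
    rw [IsDomain.minimalPrimes_eq_singleton_bot] at h4
    exact hR'0 h4

variable [IsAdicComplete (maximalIdeal A) A]

/-- a prime of coheight one is the kernel of a finite local map to a DVR -/
theorem exists_dvr (P : Ideal A) [P.IsPrime] (hPm : P ≠ maximalIdeal A)
    (h : ∀ Q : Ideal A, Q.IsPrime → P < Q → Q = maximalIdeal A) :
    ∃ (V : Type u) (_ : CommRing V) (_ : IsDomain V) (_ : IsDiscreteValuationRing V) (φ : A →+* V),
      IsLocalHom φ ∧ φ.Finite ∧ RingHom.ker φ = P := by
  let B := A ⧸ P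
  let K := FractionRing B
  let C := integralClosure B K
  have hloc : IsLocalRing B := IsLocalRing.of_surjective' (Ideal.Quotient.mk P) Ideal.Quotient.mk_surjective
  have : IsAdicComplete (maximalIdeal B) B := Groth.Agent.Cohen12.isAdicComplete_quotient P
  have : HenselianLocalRing B := Groth.Agent.EllIso2.henselianLocalRing_of_isAdicComplete B
  have hfin : Module.Finite B C :=
    (Groth.Agent.CAlgH2.isN2_of_isAdicComplete B) K inferInstance
  have : Algebra.IsIntegral B C := inferInstance
  have : IsLocalRing C := Groth.Agent.WE91.isLocalRing_of_isIntegral_of_isDomain B C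
  have : IsNoetherianRing C := IsNoetherianRing.of_finite B C
  have hinj : Function.Injective (algebraMap B C) := fun a b e =>
    IsFractionRing.injective B K (congrArg Subtype.val e)
  have : IsFractionRing C K := integralClosure.isFractionRing_of_finite_extension K K
  have hdim : Ring.KrullDimLE 1 B := by
    rw [Ring.krullDimLE_one_iff_of_noZeroDivisors]
    intro I hI0 hI
    have hc : P ≤ I.comap (Ideal.Quotient.mk P) := fun a ha => by
      rw [Ideal.mem_comap, Ideal.Quotient.eq_zero_iff_mem.2 ha]; exact I.zero_mem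
    have hlt : P < I.comap (Ideal.Quotient.mk P) := lt_of_le_of_ne hc fun e => hI0 (by
      rw [← Ideal.map_comap_of_surjective _ Ideal.Quotient.mk_surjective I, ← e,
        Ideal.map_quotient_self])
    have h2 := h _ (hI.comap _) hlt
    rw [← Ideal.map_comap_of_surjective _ Ideal.Quotient.mk_surjective I, h2]
    exact ((Ideal.map_eq_top_or_isMaximal_of_surjective _ Ideal.Quotient.mk_surjective
      (maximalIdeal.isMaximal A)).resolve_left (fun e => hI.ne_top (by
        rw [← Ideal.map_comap_of_surjective _ Ideal.Quotient.mk_surjective I, h2, e])))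
  have : Ring.DimensionLEOne B := ⟨fun {p} hp0 hp =>
    (Ring.krullDimLE_one_iff_of_noZeroDivisors.1 hdim) p hp0 hp⟩
  have : Ring.DimensionLEOne C := Ring.DimensionLEOne.integralClosure B K
  have : IsIntegrallyClosed C := integralClosure.isIntegrallyClosedOfFiniteExtension K (L := K)
  have : IsDedekindRing C := {}
  have : IsDedekindDomain C := {}
  have hCf : ¬ IsField C := by
    intro hC
    have hB : IsField B := isField_of_isIntegral_of_isField hinj hC
    apply hPm
    exact le_antisymm (IsLocalRing.le_maximalIdeal (Ideal.IsPrime.ne_top ‹_›))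
      ((IsLocalRing.eq_maximalIdeal ((Ideal.Quotient.maximal_of_isField P) hB)).ge)
  have : IsDiscreteValuationRing C :=
    { not_a_field' := fun e => hCf (IsLocalRing.isField_iff_maximalIdeal_eq.2 e) }
  refine ⟨C, inferInstance, inferInstance, inferInstance, (algebraMap B C).comp (Ideal.Quotient.mk P),
    ?_, ?_, ?_⟩
  · have h1 : IsLocalHom (algebraMap B C) :=
      RingHom.IsIntegral.isLocalHom (algebraMap_isIntegral_iff.2 ‹_›) hinj
    have h2 : IsLocalHom (Ideal.Quotient.mk P) :=
      Function.Surjective.isLocalHom _ Ideal.Quotient.mk_surjective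
    exact RingHom.isLocalHom_comp _ _
  · exact RingHom.Finite.comp (RingHom.finite_algebraMap.2 hfin)
      (RingHom.Finite.of_surjective _ Ideal.Quotient.mk_surjective)
  · rw [RingHom.ker_comp_of_injective _ hinj, Ideal.mk_ker]

/-- Chevalley's lemma for a family of ideals with zero intersection -/
theorem exists_finset_inf_le (S : Set (Ideal A)) (hS : ∀ x, (∀ P ∈ S, x ∈ P) → x = 0) (n : ℕ) :
    ∃ s : Finset S, (s.inf fun P => (P : Ideal A)) ≤ maximalIdeal A ^ n := by
  classical
  set m := maximalIdeal A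
  let I : Finset S → Ideal A := fun s => s.inf fun P => (P : Ideal A)
  have hatt : ∀ N : ℕ, ∃ s : Finset S, ∀ t, I s ⊔ m ^ N ≤ I t ⊔ m ^ N := by
    intro N
    rcases Nat.eq_zero_or_pos N with rfl | hN
    · exact ⟨∅, fun t => by simp⟩
    have : Nontrivial (A ⧸ m ^ N) := Ideal.Quotient.nontrivial_iff.2 fun e =>
      (maximalIdeal.isMaximal A).ne_top (top_le_iff.1 (e ▸ Ideal.pow_le_self hN.ne'))
    have hl : IsLocalRing (A ⧸ m ^ N) :=
      IsLocalRing.of_surjective' (Ideal.Quotient.mk _) Ideal.Quotient.mk_surjective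
    have : IsArtinianRing (A ⧸ m ^ N) := by
      rw [isArtinianRing_iff_isNilpotent_maximalIdeal]
      refine ⟨N, ?_⟩
      rw [Ideal.zero_eq_bot, ← IsLocalRing.map_maximalIdeal_of_surjective (Ideal.Quotient.mk _)
        Ideal.Quotient.mk_surjective, ← Ideal.map_pow, Ideal.map_quotient_self]
    obtain ⟨M, ⟨s, rfl⟩, hmin⟩ := IsArtinian.set_has_minimal
      (Set.range fun s => (I s).map (Ideal.Quotient.mk (m ^ N))) (Set.range_nonempty _)
    refine ⟨s, fun t => ?_⟩
    have hu : I (s ∪ t) ≤ I s := Finset.inf_mono Finset.subset_union_left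
    have hv : I (s ∪ t) ≤ I t := Finset.inf_mono Finset.subset_union_right
    have heq : (I (s ∪ t)).map (Ideal.Quotient.mk (m ^ N)) = (I s).map (Ideal.Quotient.mk (m ^ N)) :=
      eq_of_le_of_not_lt (Ideal.map_mono hu) (hmin _ ⟨s ∪ t, rfl⟩)
    have h1 := congrArg (Ideal.comap (Ideal.Quotient.mk (m ^ N))) heq
    simp only [Ideal.comap_map_of_surjective _ Ideal.Quotient.mk_surjective, ← RingHom.ker_eq_comap_bot,
      Ideal.mk_ker] at h1
    rw [← h1]
    exact sup_le_sup_right hv _
  choose s hs using hatt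
  let J : ℕ → Ideal A := fun N => I (s N) ⊔ m ^ N
  have hstep : ∀ N, ∀ x ∈ J N, ∃ y ∈ J (N + 1), x - y ∈ m ^ N := by
    intro N x hx
    have hx' : x ∈ I (s (N + 1)) ⊔ m ^ N := hs N (s (N + 1)) hx
    obtain ⟨y, hy, z, hz, rfl⟩ := Submodule.mem_sup.1 hx'
    exact ⟨y, le_sup_left (b := m ^ (N + 1)) hy, by simpa using hz⟩
  refine ⟨s n, fun x hx => ?_⟩
  have hxJ : x ∈ J n := le_sup_left (b := m ^ n) hx
  choose g hg hg' using hstep
  let y : (k : ℕ) → {a : A // a ∈ J (n + k)} := fun k =>
    Nat.rec ⟨x, hxJ⟩ (fun k r => ⟨g (n + k) r.1 r.2, hg (n + k) r.1 r.2⟩) k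
  have hy : ∀ k, (y k).1 - (y (k + 1)).1 ∈ m ^ (n + k) := fun k => hg' _ _ _
  have hy' : ∀ a b, a ≤ b → (y a).1 - (y b).1 ∈ m ^ (n + a) := by
    intro a b hab
    induction b, hab using Nat.le_induction with
    | base => simp
    | succ b hab ih =>
      have := add_mem ih (Ideal.pow_le_pow_right (by omega : n + a ≤ n + b) (hy b))
      simpa using this
  have hprec : IsPrecomplete m A := inferInstance
  obtain ⟨L, hL⟩ := hprec.prec' (fun k => (y k).1) (fun {a b} hab => by
    rw [SModEq.sub_mem, smul_eq_mul, Ideal.mul_top]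
    exact Ideal.pow_le_pow_right (Nat.le_add_left a n) (hy' a b hab))
  have hL' : ∀ k, (y k).1 - L ∈ m ^ k := fun k => by
    have := hL k
    rwa [SModEq.sub_mem, smul_eq_mul, Ideal.mul_top] at this
  have hLJ : ∀ k, L ∈ J k := by
    intro k
    have h1 : (y k).1 ∈ I (s k) ⊔ m ^ k := by
      refine sup_le ((hs (n + k) (s k)).trans' le_sup_left |>.trans ?_) ?_ (y k).2
      · exact sup_le_sup_left (Ideal.pow_le_pow_right (Nat.le_add_left k n)) _
      · exact le_sup_of_le_right (Ideal.pow_le_pow_right (Nat.le_add_left k n))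
    have := sub_mem h1 (le_sup_right (a := I (s k)) (hL' k))
    simpa [J] using this
  have hL0 : L = 0 := by
    refine hS L fun P hP => ?_
    have hall : ∀ k, L ∈ P ⊔ m ^ k := fun k => by
      have h1 := hs k {⟨P, hP⟩} (hLJ k)
      simpa [I] using h1
    rcases eq_or_ne P ⊤ with h | h
    · simp [h]
    have : IsLocalRing (A ⧸ P) :=
      have := Ideal.Quotient.nontrivial_iff.2 h
      IsLocalRing.of_surjective' (Ideal.Quotient.mk P) Ideal.Quotient.mk_surjective
    rw [← Ideal.Quotient.eq_zero_iff_mem]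
    have hmem : Ideal.Quotient.mk P L ∈ ⨅ k : ℕ, (m.map (Ideal.Quotient.mk P)) ^ k := by
      simp only [Submodule.mem_iInf, ← Ideal.map_pow]
      intro k
      have := Ideal.mem_map_of_mem (Ideal.Quotient.mk P) (hall k)
      rwa [Ideal.map_sup, Ideal.map_quotient_self, bot_sup_eq] at this
    rwa [IsLocalRing.map_maximalIdeal_of_surjective _ Ideal.Quotient.mk_surjective,
      Ideal.iInf_pow_eq_bot_of_isLocalRing _ (maximalIdeal.isMaximal _).ne_top, Ideal.mem_bot] at hmem
  have h1 := hy' 0 n (Nat.zero_le n)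
  have h2 := hL' n
  rw [hL0, sub_zero] at h2
  simpa [y] using add_mem h1 h2

theorem exists_family [IsReduced A] (hA : ¬ IsField A) (n : ℕ) :
    ∃ (k : ℕ) (V : Fin k → Type u) (_ : ∀ i, CommRing (V i)) (_ : ∀ i, IsDomain (V i))
      (_ : ∀ i, IsDiscreteValuationRing (V i)) (φ : ∀ i, A →+* V i),
      (∀ i, IsLocalHom (φ i) ∧ (φ i).Finite) ∧
        ⨅ i, RingHom.ker (φ i) ≤ maximalIdeal A ^ n := by
  classical
  let S : Set (Ideal A) := {P | P.IsPrime ∧ P ≠ maximalIdeal A ∧
    ∀ Q : Ideal A, Q.IsPrime → P < Q → Q = maximalIdeal A}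
  have hS : ∀ x, (∀ P ∈ S, x ∈ P) → x = 0 := by
    intro x hx
    by_contra hx0
    obtain ⟨g, hg, hg0⟩ := Submodule.exists_mem_ne_zero_of_ne_bot
      (fun e => hA (IsLocalRing.isField_iff_maximalIdeal_eq.2 e))
    by_cases hxm : x ∈ maximalIdeal A
    · obtain ⟨P, hP, hxP, h⟩ := exists_prime_coheight_one hxm
        (fun h => hx0 (isNilpotent_iff_eq_zero.1 h))
      exact hxP (hx P ⟨hP, fun e => hxP (e ▸ hxm), h⟩)
    · obtain ⟨P, hP, hgP, h⟩ := exists_prime_coheight_one hg
        (fun h => hg0 (isNilpotent_iff_eq_zero.1 h))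
      exact hxm (IsLocalRing.le_maximalIdeal hP.ne_top (hx P ⟨hP, fun e => hgP (e ▸ hg), h⟩))
  obtain ⟨s, hs⟩ := exists_finset_inf_le S hS n
  let e : Fin s.card ≃ s := s.equivFin.symm
  have hex : ∀ i : Fin s.card, ∃ (V : Type u) (_ : CommRing V) (_ : IsDomain V)
      (_ : IsDiscreteValuationRing V) (φ : A →+* V),
      IsLocalHom φ ∧ φ.Finite ∧ RingHom.ker φ = ((e i).1 : Ideal A) := fun i =>
    have := (e i).1.2.1
    exists_dvr _ (e i).1.2.2.1 (e i).1.2.2.2
  choose V i1 i2 i3 φ hl hf hk using hex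
  refine ⟨s.card, V, i1, i2, i3, φ, fun i => ⟨hl i, hf i⟩, le_trans ?_ hs⟩
  refine Finset.le_inf fun P hP => ?_
  refine (iInf_le _ (e.symm ⟨P, hP⟩)).trans (le_of_eq ?_)
  rw [hk, Equiv.apply_symm_apply]

end Groth.Agent.DvrKer31
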